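import Cfsg.Agent.Lib.ExtremelyClosed.Abelian.Pair
import Cfsg.Agent.Lib.Involutions.Basic
import Cfsg.Agent.Lib.BrauerSuzuki.ZStar
import Cfsg.Agent.Lib.Solvable.Fitting
import Cfsg.Agent.Lib.Solvable.Hall
import Cfsg.Prelude.Def_CaseTheorems

/-!
`G = N(H) O(G)` for an extremely closed abelian 2-subgroup `H`. The relation "product of odd order" is transitive
on the involutions of conjugates of `H`, so these involutions are isolated in the subgroup they control and the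
Z*-theorem applies.
-/

set_option autoImplicit false
set_option linter.style.haveILetI false
set_option linter.unusedSectionVars false

namespace Cfsg.Agent.XClosedAb

open Cfsg

universe u

variable {G : Type u} [Group G] [Finite G]

def Mem (H A : Subgroup G) : Prop := ∃ g : G, A = cj g H

def Inv (H : Subgroup G) (x : G) : Prop := orderOf x = 2 ∧ ∃ A, Mem H A ∧ x ∈ A

def Rel (x y : G) : Prop := Odd (orderOf (x * y))

theorem Rel.symm {x y : G} (h : Rel x y) : Rel y x := by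
  unfold Rel at *
  rwa [show y * x = x⁻¹ * (x * y) * x⁻¹⁻¹ by group, Invol.order_conj]

theorem Rel.self {x : G} (hx : orderOf x = 2) : Rel x x := by
  unfold Rel
  rw [Invol.mul_self hx, orderOf_one]
  exact odd_one

theorem eq_one_of_pgroup {x : G} {A : Subgroup G} (hA : IsPGroup 2 A) (hx : x ∈ A) (ho : Odd (orderOf x)) :
    x = 1 := by
  obtain ⟨k, hk⟩ := hA ⟨x, hx⟩
  have hk' : x ^ 2 ^ k = 1 := congrArg Subtype.val hk
  obtain ⟨j, -, hj⟩ := (Nat.dvd_prime_pow Nat.prime_two).1 (orderOf_dvd_of_pow_eq_one hk')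
  rcases j with _ | j
  · exact orderOf_eq_one_iff.1 hj
  · rw [hj, Nat.odd_pow_iff (Nat.succ_ne_zero j)] at ho
    exact absurd ho (by decide)

variable {H : Subgroup G} (h : Hyp H)
include h

theorem Mem.hyp {A : Subgroup G} (hA : Mem H A) : Hyp A := by
  obtain ⟨g, rfl⟩ := hA; exact h.conj g

theorem pair_data {A B : Subgroup G} (hA : Mem H A) (hB : Mem H B) :
    ∃ π : ↥(A ⊔ B) →* G, (∀ x : ↥(A ⊔ B), π x ∈ A) ∧ (∀ x : ↥(A ⊔ B), (x : G) ∈ A → π x = (x : G)) ∧
      (∀ x : ↥(A ⊔ B), Odd (orderOf (x : G)) ↔ π x = 1) ∧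
      (∃ o : ↥(A ⊔ B), π o = 1 ∧ B = cj (o : G) A) ∧
      ∀ Z : Subgroup G, Z ≤ A ⊔ B → IsPGroup 2 Z → ∃ o : G, Z ≤ cj o A := by
  haveI : Fact (Nat.Prime 2) := ⟨Nat.prime_two⟩
  have hyA := hA.hyp h
  obtain ⟨a, rfl⟩ := hA
  obtain ⟨b, rfl⟩ := hB
  have hb : cj b H = cj (b * a⁻¹) (cj a H) := by rw [cj_cj, inv_mul_cancel_right]
  rw [hb]
  set A := cj a H
  set g := b * a⁻¹
  obtain ⟨R, hRX, hR, ⟨o, ho, he⟩, π, hπA, hπid, hπR⟩ := hyA.pair g
  have hodd : ∀ x : ↥(A ⊔ cj g A), Odd (orderOf (x : G)) ↔ π x = 1 := by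
    intro x
    refine ⟨fun hx => ?_, fun hx => ?_⟩
    · refine eq_one_of_pgroup hyA.1 (hπA x) (Odd.of_dvd_nat hx ?_)
      rw [Subgroup.orderOf_coe]
      exact orderOf_map_dvd π x
    · refine Odd.of_dvd_nat hR ?_
      have h1 := orderOf_dvd_natCard (⟨(x : G), (hπR x).1 hx⟩ : R)
      rwa [Subgroup.orderOf_mk] at h1
  refine ⟨π, hπA, hπid, hodd, ⟨⟨o, hRX ho⟩, (hπR _).2 ho, he⟩, fun Z hZX hZ => ?_⟩
  obtain ⟨P₀, hP₀⟩ := (hyA.1.comap_subtype (H := A) (K := A ⊔ cj g A)).exists_le_sylow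
  have hP₀A : (P₀ : Subgroup ↥(A ⊔ cj g A)) = A.subgroupOf (A ⊔ cj g A) := by
    refine le_antisymm (fun x hx => ?_) hP₀
    rw [Subgroup.mem_subgroupOf]
    let x' : ↥(A ⊔ cj g A) := ⟨π x, Subgroup.mem_sup_left (hπA x)⟩
    have hx' : x' ∈ (P₀ : Subgroup ↥(A ⊔ cj g A)) := hP₀ (hπA x)
    have h1 : π (x'⁻¹ * x) = 1 := by rw [map_mul, map_inv, hπid x' (hπA x), inv_mul_cancel]
    have h2 := (hodd _).2 h1
    have h3 : ((x'⁻¹ * x : ↥(A ⊔ cj g A)) : G) = 1 := eq_one_of_pgroup (P₀.isPGroup'.map (A ⊔ cj g A).subtype)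
      (Subgroup.mem_map_of_mem _ (mul_mem (inv_mem hx') hx)) h2
    rw [Subgroup.coe_mul, Subgroup.coe_inv, inv_mul_eq_one] at h3
    exact h3 ▸ hπA x
  obtain ⟨P, hP⟩ := (hZ.comap_subtype (H := Z) (K := A ⊔ cj g A)).exists_le_sylow
  obtain ⟨x, hx⟩ := MulAction.exists_smul_eq ↥(A ⊔ cj g A) P₀ P
  refine ⟨(x : G), fun z hz => ?_⟩
  have hzP : (⟨z, hZX hz⟩ : ↥(A ⊔ cj g A)) ∈ ((x • P₀ : Sylow 2 ↥(A ⊔ cj g A)) : Subgroup ↥(A ⊔ cj g A)) := hx ▸ hP hz
  rw [Sylow.coe_subgroup_smul, hP₀A] at hzP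
  obtain ⟨w, hw, hwe⟩ := Subgroup.mem_smul_pointwise_iff_exists _ _ _ |>.1 hzP
  exact ⟨(w : G), hw, congrArg Subtype.val hwe⟩

theorem exists_rel {A : Subgroup G} (hA : Mem H A) {y : G} (hy : Inv H y) :
    ∃ a ∈ A, orderOf a = 2 ∧ Rel a y := by
  obtain ⟨hy2, B, hB, hyB⟩ := hy
  obtain ⟨π, hπA, hπid, hodd, -, -⟩ := pair_data h hA hB
  let y' : ↥(A ⊔ B) := ⟨y, Subgroup.mem_sup_right hyB⟩
  have hsq : π y' * π y' = 1 := by
    rw [← map_mul, show y' * y' = 1 from Subtype.ext (Invol.mul_self hy2), map_one]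
  refine ⟨π y', hπA y', Invol.order_two_of_sq hsq (fun h1 => ?_), ?_⟩
  · have := (hodd y').2 h1
    change Odd (orderOf y) at this
    rw [hy2] at this
    exact absurd this (by decide)
  · let a' : ↥(A ⊔ B) := ⟨π y', Subgroup.mem_sup_left (hπA y')⟩
    exact (hodd (a' * y')).2 (by rw [map_mul, hπid a' (hπA y'), hsq])

theorem unique_rel {A : Subgroup G} (hA : Mem H A) {y a a' : G} (hy : Inv H y) (ha : a ∈ A) (ha' : a' ∈ A)
    (r : Rel a y) (r' : Rel a' y) : a = a' := by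
  obtain ⟨hy2, B, hB, hyB⟩ := hy
  obtain ⟨π, hπA, hπid, hodd, -, -⟩ := pair_data h hA hB
  let y' : ↥(A ⊔ B) := ⟨y, Subgroup.mem_sup_right hyB⟩
  have h1 := (hodd ((⟨a, Subgroup.mem_sup_left ha⟩ : ↥(A ⊔ B)) * y')).1 r
  have h2 := (hodd ((⟨a', Subgroup.mem_sup_left ha'⟩ : ↥(A ⊔ B)) * y')).1 r'
  rw [map_mul, hπid _ ha] at h1
  rw [map_mul, hπid _ ha'] at h2
  exact mul_right_cancel (h1.trans h2.symm)

theorem shared {A B : Subgroup G} (hA : Mem H A) (hB : Mem H B) {x : G} (hxA : x ∈ A) (hxB : x ∈ B) :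
    ∃ c ∈ Subgroup.centralizer ({x} : Set G), B = cj c A := by
  obtain ⟨π, hπA, hπid, hodd, ⟨o, ho, he⟩, -⟩ := pair_data h hA hB
  refine ⟨(o : G), ?_, he⟩
  rw [he, mem_cj] at hxB
  let a : ↥(A ⊔ B) := ⟨_, Subgroup.mem_sup_left hxB⟩
  let x' : ↥(A ⊔ B) := ⟨x, Subgroup.mem_sup_left hxA⟩
  have h1 : x' = o * a * o⁻¹ := Subtype.ext (by simp [x', a, mul_assoc])
  have h2 := congrArg π h1
  rw [map_mul, map_mul, map_inv, ho, one_mul, inv_one, mul_one, hπid x' hxA, hπid a hxB] at h2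
  change x = (o : G)⁻¹ * x * o at h2
  rw [Subgroup.mem_centralizer_singleton_iff]
  conv_lhs => rw [h2]
  group

/-- The central involution of the dihedral group generated by two unrelated involutions. -/
theorem chain {A B : Subgroup G} (hA : Mem H A) (hB : Mem H B) {x y : G} (hx : x ∈ A) (hx2 : orderOf x = 2)
    (hy : y ∈ B) (hy2 : orderOf y = 2) (hne : ¬ Rel x y) {a : G} (ha : a ∈ A) (ha2 : orderOf a = 2) (r : Rel a y) :
    orderOf ((x * y) ^ (orderOf (x * y) / 2)) = 2 ∧ (∃ C, Mem H C ∧ x ∈ C ∧ (x * y) ^ (orderOf (x * y) / 2) ∈ C) ∧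
      orderOf (x * a) = 2 ∧ Rel (x * a) ((x * y) ^ (orderOf (x * y) / 2)) := by
  haveI : Fact (Nat.Prime 2) := ⟨Nat.prime_two⟩
  obtain ⟨π, hπA, hπid, hodd, -, hsyl⟩ := pair_data h hA hB
  have heven : Even (orderOf (x * y)) := Nat.not_odd_iff_even.1 hne
  have hw2 := Invol.half_order hx2 hy2 heven (orderOf_pos _)
  have hwc := (Invol.half_commute hx2 hy2 heven).1
  set w := (x * y) ^ (orderOf (x * y) / 2) with hw
  let x' : ↥(A ⊔ B) := ⟨x, Subgroup.mem_sup_left hx⟩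
  let y' : ↥(A ⊔ B) := ⟨y, Subgroup.mem_sup_right hy⟩
  let a' : ↥(A ⊔ B) := ⟨a, Subgroup.mem_sup_left ha⟩
  let w' : ↥(A ⊔ B) := (x' * y') ^ (orderOf (x * y) / 2)
  have hwG : (w' : G) = w := by simp [w', x', y', hw]
  have hπy : π y' = a := by
    have h1 := (hodd (a' * y')).1 r
    rw [map_mul, hπid a' ha] at h1
    rw [eq_inv_of_mul_eq_one_right h1]
    exact Invol.inv_self ha2
  have hxa2 : (x * a) * (x * a) = 1 := by
    rw [mul_assoc, ← mul_assoc a x a, (hA.hyp h).2.1 a ha x hx, mul_assoc x a a, Invol.mul_self ha2, mul_one,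
      Invol.mul_self hx2]
  have hxa1 : x * a ≠ 1 := fun h1 => hne (by
    have : x = a := by rw [eq_inv_of_mul_eq_one_left h1, Invol.inv_self ha2]
    rwa [this])
  have hπw : π w' = x * a := by
    have h1 : π w' = (x * a) ^ (orderOf (x * y) / 2) := by
      rw [map_pow, map_mul, hπid x' hx, hπy]
    rcases Nat.even_or_odd (orderOf (x * y) / 2) with ⟨j, hj⟩ | ⟨j, hj⟩
    · exfalso
      rw [hj, pow_add, ← Commute.mul_pow (Commute.refl _), hxa2, one_pow] at h1
      have := (hodd w').2 h1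
      rw [hwG, hw2] at this
      exact absurd this (by decide)
    · rw [h1, hj, pow_succ, pow_mul, pow_two, hxa2, one_pow, one_mul]
  refine ⟨hw2, ?_, Invol.order_two_of_sq hxa2 hxa1, ?_⟩
  · have hz1 : IsPGroup 2 (Subgroup.zpowers x) := IsPGroup.of_card (n := 1) (by rw [Nat.card_zpowers, hx2, pow_one])
    have hz2 : IsPGroup 2 (Subgroup.zpowers w) := IsPGroup.of_card (n := 1) (by rw [Nat.card_zpowers, hw2, pow_one])
    have hnor : Subgroup.zpowers w ≤ Subgroup.normalizer ((Subgroup.zpowers x : Subgroup G) : Set G) := by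
      rw [Subgroup.zpowers_le]
      refine Subgroup.centralizer_le_normalizer _ (Subgroup.mem_centralizer_iff.2 fun z hz => ?_)
      obtain ⟨i, rfl⟩ := Subgroup.mem_zpowers_iff.1 hz
      exact (hwc.zpow_right i).eq.symm
    have hwX : w ∈ A ⊔ B := hwG ▸ w'.2
    obtain ⟨o, ho⟩ := hsyl _ (sup_le (Subgroup.zpowers_le.2 x'.2) (Subgroup.zpowers_le.2 hwX))
      (hz1.to_sup_of_normal_left' hz2 hnor)
    refine ⟨cj o A, ?_, ho (Subgroup.mem_sup_left (Subgroup.mem_zpowers x)),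
      ho (Subgroup.mem_sup_right (Subgroup.mem_zpowers w))⟩
    obtain ⟨c, rfl⟩ := hA
    exact ⟨o * c, cj_cj _ _ _⟩
  · have e := (hodd (x' * a' * w')).2 (by rw [map_mul, map_mul, hπid x' hx, hπid a' ha, hπw, hxa2])
    rw [Subgroup.coe_mul, Subgroup.coe_mul, hwG] at e
    exact e

variable (hloc : ∀ x : G, Inv H x → ∀ A : Subgroup G, Mem H A → x ∈ A →
  Subgroup.normalizer ((A.subgroupOf (Subgroup.centralizer ({x} : Set G)) :
      Subgroup ↥(Subgroup.centralizer ({x} : Set G))) : Set ↥(Subgroup.centralizer ({x} : Set G))) ⊔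
    Cfsg.oddCore ↥(Subgroup.centralizer ({x} : Set G)) = ⊤)
include hloc

/-- Transitivity inside the centraliser of an involution. -/
theorem trans_local {x : G} (hx : Inv H x) {A B C : Subgroup G} (hA : Mem H A) (hB : Mem H B) (hC : Mem H C)
    (hxA : x ∈ A) (hxB : x ∈ B) (hxC : x ∈ C) {u v w : G} (hu : u ∈ A) (hv : v ∈ B) (hw : w ∈ C)
    (r₁ : Rel u v) (r₂ : Rel v w) (hv2 : orderOf v = 2) : Rel u w := by
  set U := Subgroup.centralizer ({x} : Set G) with hU
  have htop := hloc x hx A hA hxA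
  set O := Cfsg.oddCore U
  haveI : O.Normal := FittingCores.pPrimeCore_normal 2
  have hyA := hA.hyp h
  have hAU : A ≤ U := fun z hz => Subgroup.mem_centralizer_singleton_iff.2 (hyA.2.1 z hz x hxA)
  let q := QuotientGroup.mk' O
  have himg : ∀ D : Subgroup G, Mem H D → x ∈ D → ∀ z ∈ D, ∃ hz : z ∈ U, ∃ a : A,
      q ⟨z, hz⟩ = q ⟨a, hAU a.2⟩ := by
    intro D hD hxD z hz
    obtain ⟨c, hc, rfl⟩ := shared h hA hD hxA hxD
    rw [mem_cj] at hz
    have hzU : z ∈ U := by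
      have := mul_mem (mul_mem hc (hAU hz)) (inv_mem hc)
      simpa [mul_assoc] using this
    refine ⟨hzU, ?_⟩
    obtain ⟨o, ho, n, hn, hon⟩ := Subgroup.mem_sup_of_normal_left.1
      ((by rw [sup_comm, htop]; trivial) : (⟨c, hc⟩ : U) ∈ O ⊔ _)
    let a₀ : U := ⟨_, hAU hz⟩
    have ha₁ : n * a₀ * n⁻¹ ∈ A.subgroupOf U :=
      (Subgroup.mem_normalizer_iff.1 hn a₀).1 hz
    refine ⟨⟨((n * a₀ * n⁻¹ : U) : G), ha₁⟩, ?_⟩
    have he : (⟨z, hzU⟩ : U) = o * (n * a₀ * n⁻¹) * o⁻¹ := by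
      rw [show o * (n * a₀ * n⁻¹) * o⁻¹ = (o * n) * a₀ * (o * n)⁻¹ by group, hon]
      exact Subtype.ext (by simp [a₀, mul_assoc])
    rw [he, map_mul, map_mul, map_inv, show q o = 1 from (QuotientGroup.eq_one_iff o).2 ho, one_mul, inv_one,
      mul_one]
  obtain ⟨huU, a₁, h₁⟩ := himg A hA hxA u hu
  obtain ⟨hvU, a₂, h₂⟩ := himg B hB hxB v hv
  obtain ⟨hwU, a₃, h₃⟩ := himg C hC hxC w hw
  have hzero : ∀ {s t : U} {b c : A}, q s = q ⟨b, hAU b.2⟩ → q t = q ⟨c, hAU c.2⟩ →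
      Odd (orderOf ((s : G) * t)) → q s * q t = 1 := by
    intro s t b c hs ht hodd
    have h4 : IsPGroup 2 ((A.subgroupOf U).map q) := hyA.1.comap_subtype.map _
    refine eq_one_of_pgroup h4 ?_ ?_
    · rw [hs, ht, ← map_mul]
      exact Subgroup.mem_map_of_mem _ (mul_mem b.2 c.2 : ((b : G) * c) ∈ A)
    · rw [← map_mul]
      refine Odd.of_dvd_nat hodd ((orderOf_map_dvd q (s * t)).trans ?_)
      rw [← Subgroup.orderOf_coe, Subgroup.coe_mul]
  have e₁ := hzero h₁ h₂ r₁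
  have e₂ := hzero h₂ h₃ r₂
  have hqv : q (⟨v, hvU⟩ : U) * q ⟨v, hvU⟩ = 1 := by
    rw [← map_mul, show (⟨v, hvU⟩ : U) * ⟨v, hvU⟩ = 1 from Subtype.ext (Invol.mul_self hv2), map_one]
  have huv : q (⟨u, huU⟩ : U) = q ⟨v, hvU⟩ := mul_right_cancel (e₁.trans hqv.symm)
  have h5 : q ((⟨u, huU⟩ : U) * ⟨w, hwU⟩) = 1 := by rw [map_mul, huv, e₂]
  have h6 : (⟨u, huU⟩ : U) * ⟨w, hwU⟩ ∈ O := (QuotientGroup.eq_one_iff _).1 h5
  have h7 := orderOf_dvd_natCard (⟨_, h6⟩ : O)
  rw [Subgroup.orderOf_mk, ← Subgroup.orderOf_coe] at h7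
  exact Odd.of_dvd_nat (Nat.coprime_two_right.1 (FittingCores.pPrimeCore_coprime (G := U) 2)) h7

theorem compat {A A' : Subgroup G} (hA : Mem H A) (hA' : Mem H A') {x : G} (hx2 : orderOf x = 2) (hxA : x ∈ A)
    (hxA' : x ∈ A') {y a a' : G} (hy : Inv H y) (ha : a ∈ A) (ha2 : orderOf a = 2) (r : Rel a y)
    (ha' : a' ∈ A') (ha2' : orderOf a' = 2) (r' : Rel a' y) : Rel a a' := by
  have hyy := hy
  obtain ⟨hy2, B, hB, hyB⟩ := hy
  by_cases hxy : Rel x y
  · rw [unique_rel h hA hyy ha hxA r hxy, unique_rel h hA' hyy ha' hxA' r' hxy]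
    exact Rel.self hx2
  obtain ⟨hw2, ⟨C, hC, hxC, hwC⟩, hxa, hr₁⟩ := chain h hA hB hxA hx2 hyB hy2 hxy ha ha2 r
  obtain ⟨-, -, hxa', hr₂⟩ := chain h hA' hB hxA' hx2 hyB hy2 hxy ha' ha2' r'
  have key := trans_local h hloc ⟨hx2, A, hA, hxA⟩ hA hC hA' hxA hxC hxA' (mul_mem hxA ha) hwC (mul_mem hxA' ha')
    hr₁ hr₂.symm hw2
  have hcom : x * a = a * x := (hA.hyp h).2.1 x hxA a ha
  unfold Rel at key ⊢
  rwa [hcom, mul_assoc a x, ← mul_assoc x x, Invol.mul_self hx2, one_mul] at key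

/-- Two involutions have the same partner in `A`. -/
def Part (A : Subgroup G) (y z : G) : Prop := ∃ a ∈ A, orderOf a = 2 ∧ Rel a y ∧ Rel a z

theorem part_shared {A A' : Subgroup G} (hA : Mem H A) (hA' : Mem H A') {x : G} (hx2 : orderOf x = 2)
    (hxA : x ∈ A) (hxA' : x ∈ A') {y z : G} (hy : Inv H y) (hz : Inv H z) (hp : Part A y z) : Part A' y z := by
  obtain ⟨a, ha, ha2, ry, rz⟩ := hp
  obtain ⟨b, hb, hb2, rb⟩ := exists_rel h hA' hy
  obtain ⟨c, hc, hc2, rc⟩ := exists_rel h hA' hz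
  have h1 := compat h hloc hA hA' hx2 hxA hxA' hy ha ha2 ry hb hb2 rb
  have h2 := compat h hloc hA hA' hx2 hxA hxA' hz ha ha2 rz hc hc2 rc
  have hbc := unique_rel h hA' ⟨ha2, A, hA, ha⟩ hb hc h1.symm h2.symm
  exact ⟨b, hb, hb2, rb, hbc ▸ rc⟩

theorem part_all {A B : Subgroup G} (hA : Mem H A) (hB : Mem H B) {y z : G} (hy : Inv H y) (hz : Inv H z)
    (hp : Part A y z) : Part B y z := by
  by_cases hex : ∃ x ∈ A, ∃ x' ∈ B, orderOf x = 2 ∧ orderOf x' = 2 ∧ ¬ Rel x x'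
  · obtain ⟨x, hx, x', hx', hx2, hx2', hne⟩ := hex
    obtain ⟨a, ha, ha2, ra⟩ := exists_rel h hA ⟨hx2', B, hB, hx'⟩
    obtain ⟨hw2, ⟨C, hC, hxC, hwC⟩, -, -⟩ := chain h hA hB hx hx2 hx' hx2' hne ha ha2 ra
    obtain ⟨b, hb, hb2, rb⟩ := exists_rel h hB ⟨hx2, A, hA, hx⟩
    obtain ⟨-, ⟨D, hD, hxD, hwD⟩, -, -⟩ := chain h hB hA hx' hx2' hx hx2 (fun r => hne r.symm) hb hb2 rb
    have heq : (x' * x) ^ (orderOf (x' * x) / 2) = (x * x') ^ (orderOf (x * x') / 2) := by
      have he : x' * x = (x * x')⁻¹ := by rw [_root_.mul_inv_rev, Invol.inv_self hx2, Invol.inv_self hx2']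
      rw [he, orderOf_inv, inv_pow, Invol.inv_self hw2]
    rw [heq] at hwD
    exact part_shared h hloc hD hB hx2' hxD hx' hy hz (part_shared h hloc hC hD hw2 hwC hwD hy hz
      (part_shared h hloc hA hC hx2 hx hxC hy hz hp))
  · push Not at hex
    obtain ⟨a, ha, ha2, -, -⟩ := hp
    obtain ⟨b, hb, hb2, rb⟩ := exists_rel h hB hy
    obtain ⟨c, hc, hc2, rc⟩ := exists_rel h hB hz
    have hbc := unique_rel h hB ⟨ha2, A, hA, ha⟩ hb hc (hex a ha b hb ha2 hb2).symm (hex a ha c hc ha2 hc2).symm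
    exact ⟨b, hb, hb2, rb, hbc ▸ rc⟩

theorem rel_trans {x y z : G} (hx : Inv H x) (hy : Inv H y) (hz : Inv H z) (r₁ : Rel x y) (r₂ : Rel y z) :
    Rel x z := by
  obtain ⟨hy2, B, hB, hyB⟩ := hy
  have hxx := hx
  obtain ⟨hx2, A, hA, hxA⟩ := hx
  obtain ⟨a, ha, ha2, rx, rz⟩ := part_all h hloc hB hA hxx hz ⟨y, hyB, hy2, r₁.symm, r₂⟩
  rwa [unique_rel h hA hxx ha hxA rx (Rel.self hx2)] at rz

theorem rel_conj {g : G} (hg : g ∈ Subgroup.normalClosure (H : Set G)) :
    ∀ {y : G}, Inv H y → Rel y (g * y * g⁻¹) := by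
  have hinv : ∀ c : G, ∀ y : G, Inv H y → Inv H (c * y * c⁻¹) := by
    rintro c y ⟨hy2, _, ⟨b, rfl⟩, hy⟩
    refine ⟨by rw [Invol.order_conj, hy2], cj (c * b) H, ⟨_, rfl⟩, ?_⟩
    rw [mem_cj] at hy ⊢
    rwa [show (c * b)⁻¹ * (c * y * c⁻¹) * (c * b) = b⁻¹ * y * b by group]
  induction hg using Subgroup.closure_induction with
  | mem s hs =>
    intro y hy
    obtain ⟨t, ht, hts⟩ := Group.mem_conjugatesOfSet_iff.1 hs
    obtain ⟨c, rfl⟩ := isConj_iff.1 hts
    have hA : Mem H (cj c H) := ⟨c, rfl⟩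
    obtain ⟨a, ha, ha2, ra⟩ := exists_rel h hA hy
    refine rel_trans h hloc hy ⟨ha2, _, hA, ha⟩ (hinv _ y hy) ra.symm ?_
    unfold Rel at ra ⊢
    have hca : c * t * c⁻¹ * a * (c * t * c⁻¹)⁻¹ = a := by
      rw [(hA.hyp h).2.1 (c * t * c⁻¹) (mem_cj.2 (by simpa [mul_assoc] using ht)) a ha, mul_inv_cancel_right]
    rw [← Invol.order_conj (c * t * c⁻¹)] at ra
    rwa [show c * t * c⁻¹ * (a * y) * (c * t * c⁻¹)⁻¹ =
      (c * t * c⁻¹ * a * (c * t * c⁻¹)⁻¹) * (c * t * c⁻¹ * y * (c * t * c⁻¹)⁻¹) by group, hca] at ra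
  | one => intro y hy; simpa using Rel.self hy.1
  | mul a b _ _ ha hb =>
    intro y hy
    have hby := hinv b y hy
    have h1 := rel_trans h hloc hy hby (hinv a _ hby) (hb hy) (ha hby)
    rwa [show a * (b * y * b⁻¹) * a⁻¹ = a * b * y * (a * b)⁻¹ by group] at h1
  | inv a _ ha =>
    intro y hy
    have h1 := (ha (hinv a⁻¹ y hy)).symm
    rwa [show a * (a⁻¹ * y * a⁻¹⁻¹) * a⁻¹ = y by group] at h1

omit h hloc

theorem main_aux : ∀ (n : ℕ) (G : Type u) [Group G] [Finite G] (H : Subgroup G), Nat.card G ≤ n → Hyp H →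
    Subgroup.normalizer (H : Set G) ⊔ Cfsg.oddCore G = ⊤ := by
  intro n
  induction n with
  | zero => intro G _ _ H hn; exact absurd hn (by have := Nat.card_pos (α := G); omega)
  | succ n ih =>
  intro G _ _ H hn h
  haveI : Fact (Nat.Prime 2) := ⟨Nat.prime_two⟩
  by_cases hH : H = ⊥
  · subst hH
    rw [eq_top_iff]
    intro g _
    refine Subgroup.mem_sup_left (Subgroup.mem_normalizer_iff.2 fun x => ?_)
    simp [conj_eq_one_iff]
  set O := Cfsg.oddCore G with hOdef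
  haveI hOn : O.Normal := FittingCores.pPrimeCore_normal 2
  have quot : ∀ M : Subgroup G, ∀ [M.Normal], M ≠ ⊥ → M ≤ Subgroup.normalizer (H : Set G) ⊔ O →
      (Cfsg.oddCore (G ⧸ M)).comap (QuotientGroup.mk' M) ≤ Subgroup.normalizer (H : Set G) ⊔ O →
      Subgroup.normalizer (H : Set G) ⊔ O = ⊤ := by
    intro M _ hM hMle hQle
    have hlt : Nat.card (G ⧸ M) ≤ n := by
      have h2 := (Subgroup.one_lt_card_iff_ne_bot M).2 hM
      have h3 := Subgroup.card_eq_card_quotient_mul_card_subgroup M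
      have h4 : 0 < Nat.card (G ⧸ M) := Nat.card_pos
      have : Nat.card (G ⧸ M) < Nat.card G := h3 ▸ lt_mul_of_one_lt_right h4 h2
      omega
    have h1 := ih (G ⧸ M) _ hlt (h.quotient M)
    rw [eq_top_iff]
    intro g _
    have hg : QuotientGroup.mk' M g ∈ (Subgroup.normalizer (H : Set G) ⊔ O).map (QuotientGroup.mk' M) := by
      have h5 : QuotientGroup.mk' M g ∈ Subgroup.normalizer ((H.map (QuotientGroup.mk' M) : Subgroup _) : Set (G ⧸ M)) ⊔
          Cfsg.oddCore (G ⧸ M) := h1 ▸ Subgroup.mem_top _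
      refine (sup_le ((h.normalizer_map M).trans (Subgroup.map_mono (sup_le le_sup_left hMle))) ?_ :
        _ ≤ (Subgroup.normalizer (H : Set G) ⊔ O).map (QuotientGroup.mk' M)) h5
      intro z hz
      obtain ⟨z, rfl⟩ := QuotientGroup.mk'_surjective M z
      exact Subgroup.mem_map_of_mem _ (hQle hz)
    have h6 : g ∈ ((Subgroup.normalizer (H : Set G) ⊔ O).map (QuotientGroup.mk' M)).comap (QuotientGroup.mk' M) := hg
    rwa [Subgroup.comap_map_eq, QuotientGroup.ker_mk', sup_eq_left.2 hMle] at h6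
  by_cases hO : O = ⊥
  swap
  · refine quot O hO le_sup_right (le_trans ?_ le_sup_right)
    haveI : (Cfsg.oddCore (G ⧸ O)).Normal := FittingCores.pPrimeCore_normal 2
    refine FittingCores.le_pPrimeCore inferInstance ?_
    rw [HallSolv.card_comap_mk]
    exact Nat.Coprime.mul_left (FittingCores.pPrimeCore_coprime 2) (FittingCores.pPrimeCore_coprime 2)
  by_cases hcen : ∃ z ∈ H, orderOf z = 2 ∧ z ∈ Subgroup.center G
  · obtain ⟨z, hzH, hz2, hzc⟩ := hcen
    haveI : (Subgroup.zpowers z).Normal := ⟨fun n hn g => by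
      rw [Subgroup.mem_center_iff.1 (Subgroup.zpowers_le.2 hzc hn) g, mul_inv_cancel_right]; exact hn⟩
    have hzN : Subgroup.zpowers z ≤ Subgroup.normalizer (H : Set G) :=
      (Subgroup.zpowers_le.2 hzH).trans Subgroup.le_normalizer
    refine quot (Subgroup.zpowers z) ?_ (hzN.trans le_sup_left) (le_trans ?_ (hzN.trans le_sup_left))
    · rw [Ne, Subgroup.zpowers_eq_bot]; exact Invol.ne_one hz2
    set Q := (Cfsg.oddCore (G ⧸ Subgroup.zpowers z)).comap (QuotientGroup.mk' (Subgroup.zpowers z)) with hQdef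
    haveI : (Cfsg.oddCore (G ⧸ Subgroup.zpowers z)).Normal := FittingCores.pPrimeCore_normal 2
    haveI hQn : Q.Normal := inferInstance
    have hzQ : Subgroup.zpowers z ≤ Q := by
      intro x hx
      rw [hQdef, Subgroup.mem_comap, QuotientGroup.mk'_apply, (QuotientGroup.eq_one_iff x).2 hx]
      exact one_mem _
    set Z := (Subgroup.zpowers z).subgroupOf Q
    have hZ2 : IsPGroup 2 Z :=
      (IsPGroup.of_card (n := 1) (by rw [Nat.card_zpowers, hz2, pow_one]) : IsPGroup 2 (Subgroup.zpowers z)).comap_subtype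
    have hZi : ¬ 2 ∣ Z.index := by
      have h1 : Nat.card Q = Nat.card (Cfsg.oddCore (G ⧸ Subgroup.zpowers z)) * 2 := by
        rw [hQdef, HallSolv.card_comap_mk, Nat.card_zpowers, hz2, mul_comm]
      have h2 := Z.card_mul_index
      rw [Nat.card_congr (Subgroup.subgroupOfEquivOfLe hzQ).toEquiv, Nat.card_zpowers, hz2, h1, mul_comm 2,
        Nat.mul_left_inj (by norm_num : (2 : ℕ) ≠ 0)] at h2
      rw [h2]
      exact (Nat.prime_two.coprime_iff_not_dvd).1 (FittingCores.pPrimeCore_coprime 2).symm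
    let P : Sylow 2 Q := hZ2.toSylow hZi
    have hcentral : ∀ x ∈ Z, ∀ y : Q, y * x = x * y := fun x hx y =>
      Subtype.ext (Subgroup.mem_center_iff.1 (Subgroup.zpowers_le.2 hzc hx) y)
    have hcent : Subgroup.normalizer ((P : Subgroup Q) : Set Q) ≤ Subgroup.centralizer ((P : Subgroup Q) : Set Q) :=
      fun x _ => Subgroup.mem_centralizer_iff.2 fun y hy => (hcentral y hy x).symm
    set K := (MonoidHom.transferSylow P hcent).ker
    have hc := MonoidHom.ker_transferSylow_isComplement' P hcent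
    have hKodd : Odd (Nat.card K) := by
      rw [← Nat.not_even_iff_odd, even_iff_two_dvd]
      intro hd; exact P.not_dvd_index (by rwa [hc.index_eq_card])
    have hKchar : ∀ x : Q, Odd (orderOf x) → x ∈ K := fun x hx => by
      rw [MonoidHom.mem_ker]
      have hp : IsPGroup 2 ((P : Subgroup Q).map Q.subtype) := P.isPGroup'.map _
      have h1 := eq_one_of_pgroup hp (Subgroup.mem_map_of_mem _ (MonoidHom.transferSylow P hcent x).2)
        (Odd.of_dvd_nat hx (by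
          rw [Subgroup.coe_subtype, Subgroup.orderOf_coe, Subgroup.orderOf_coe]
          exact orderOf_map_dvd _ x))
      exact Subtype.ext (Subtype.ext h1)
    have hKn : (K.map Q.subtype).Normal := ⟨by
      rintro _ ⟨x, hx, rfl⟩ g
      refine ⟨⟨g * x * g⁻¹, hQn.conj_mem _ x.2 g⟩, hKchar _ ?_, rfl⟩
      rw [← Subgroup.orderOf_coe, Invol.order_conj, Subgroup.orderOf_coe]
      have := orderOf_dvd_natCard (⟨x, hx⟩ : K)
      rw [Subgroup.orderOf_mk] at this
      exact Odd.of_dvd_nat hKodd this⟩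
    have hKbot : K = ⊥ := by
      have h1 : K.map Q.subtype ≤ O := FittingCores.le_pPrimeCore hKn (by
        rw [Subgroup.card_map_of_injective Q.subtype_injective]; exact Nat.coprime_two_right.2 hKodd)
      rw [hO, le_bot_iff, Subgroup.map_eq_bot_iff_of_injective _ Q.subtype_injective] at h1
      exact h1
    have hPtop : (P : Subgroup Q) = ⊤ := Subgroup.isComplement'_bot_left.1 (hKbot ▸ hc)
    intro x hx
    have : (⟨x, hx⟩ : Q) ∈ (P : Subgroup Q) := hPtop ▸ Subgroup.mem_top _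
    exact this
  push Not at hcen
  set G₀ := Subgroup.normalClosure (H : Set G) with hG₀
  have hHG₀ : H ≤ G₀ := Subgroup.subset_normalClosure
  by_cases htop : G₀ = ⊤
  · exfalso
    have hloc : ∀ x : G, Inv H x → ∀ A : Subgroup G, Mem H A → x ∈ A →
        Subgroup.normalizer ((A.subgroupOf (Subgroup.centralizer ({x} : Set G)) :
            Subgroup ↥(Subgroup.centralizer ({x} : Set G))) : Set ↥(Subgroup.centralizer ({x} : Set G))) ⊔
          Cfsg.oddCore ↥(Subgroup.centralizer ({x} : Set G)) = ⊤ := by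
      intro x hx A hA hxA
      have hne : Subgroup.centralizer ({x} : Set G) ≠ ⊤ := by
        intro he
        obtain ⟨g, rfl⟩ := hA
        have hxc : x ∈ Subgroup.center G := Subgroup.mem_center_iff.2 fun y =>
          Subgroup.mem_centralizer_singleton_iff.1 (he ▸ Subgroup.mem_top y)
        refine hcen x ?_ hx.1 hxc
        rw [mem_cj] at hxA
        rwa [mul_assoc, ← Subgroup.mem_center_iff.1 hxc g, inv_mul_cancel_left] at hxA
      refine ih _ _ ?_ ((hA.hyp h).subgroupOf fun z hz =>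
        Subgroup.mem_centralizer_singleton_iff.2 ((hA.hyp h).2.1 z hz x hxA))
      have h1 : Nat.card (Subgroup.centralizer ({x} : Set G)) < Nat.card G := by
        refine lt_of_le_of_ne (Subgroup.card_le_card_group _) fun he => hne (Subgroup.eq_top_of_card_eq _ he)
      omega
    obtain ⟨z, hz2⟩ := exists_prime_orderOf_dvd_card' (G := H) 2 (by
      obtain ⟨k, hk⟩ := h.1.exists_card_eq
      rcases k with _ | k
      · exact absurd (Subgroup.card_eq_one.1 (by simpa using hk)) hH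
      · exact hk ▸ dvd_pow_self 2 (Nat.succ_ne_zero k))
    rw [← Subgroup.orderOf_coe] at hz2
    have hzinv : Inv H (z : G) := ⟨hz2, H, ⟨1, (cj_one H).symm⟩, z.2⟩
    have hiso : Cfsg.IsIsolated (z : G) := by
      intro g hg
      have r : Rel (z : G) (g * z * g⁻¹) := rel_conj h hloc (htop ▸ Subgroup.mem_top g : g ∈ G₀) hzinv
      have hsq : ((z : G) * (g * z * g⁻¹)) ^ 2 = 1 := by
        rw [hg.mul_pow, pow_two, pow_two, Invol.mul_self hz2, Invol.mul_self (by rw [Invol.order_conj, hz2]), mul_one]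
      have h1 : orderOf ((z : G) * (g * z * g⁻¹)) = 1 := by
        rcases (Nat.dvd_prime Nat.prime_two).1 (orderOf_dvd_of_pow_eq_one hsq) with e | e
        · exact e
        · unfold Rel at r; rw [e] at r; exact absurd r (by decide)
      rw [orderOf_eq_one_iff] at h1
      rw [eq_inv_of_mul_eq_one_right h1, Invol.inv_self hz2]
    have hz := BrauerSuzuki.zStar G (z : G) hz2 hiso
    refine hcen z z.2 hz2 (Subgroup.mem_center_iff.2 fun g => ?_)
    have h1 := hz g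
    rw [show Cfsg.pPrimeCore 2 G = ⊥ from hO, Subgroup.mem_bot] at h1
    exact commutatorElement_eq_one_iff_mul_comm.1 (by rw [commutatorElement_def]; exact h1)
  · have hlt : Nat.card G₀ ≤ n := by
      have h1 : Nat.card G₀ < Nat.card G :=
        lt_of_le_of_ne (Subgroup.card_le_card_group _) fun he => htop (Subgroup.eq_top_of_card_eq _ he)
      omega
    have h1 := ih G₀ (H.subgroupOf G₀) hlt (h.subgroupOf hHG₀)
    haveI : G₀.Normal := Subgroup.normalClosure_normal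
    have hle : G₀ ≤ Subgroup.normalizer (H : Set G) ⊔ O := by
      calc G₀ = (⊤ : Subgroup G₀).map G₀.subtype := by rw [← MonoidHom.range_eq_map, Subgroup.range_subtype]
        _ ≤ _ := by
          rw [← h1, Subgroup.map_sup]
          refine sup_le_sup ?_ (FittingCores.pPrimeCore_map_subtype_le 2 inferInstance)
          rintro _ ⟨x, hx, rfl⟩
          rw [Subgroup.mem_normalizer_iff] at *
          intro y
          constructor
          · intro hy; exact (hx ⟨y, hHG₀ hy⟩).1 hy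
          · intro hy
            have hyG : y ∈ G₀ := by
              have := mul_mem (mul_mem (inv_mem x.2) (hHG₀ hy)) x.2
              simpa [mul_assoc] using this
            exact (hx ⟨y, hyG⟩).2 hy
    rw [eq_top_iff]
    intro g _
    obtain ⟨o, ho, he⟩ := h.exists_mem hHG₀ (show cj g H ≤ G₀ by
      rintro _ ⟨y, hy, rfl⟩; exact ‹G₀.Normal›.conj_mem y (hHG₀ hy) g)
    have hn' : o⁻¹ * g ∈ Subgroup.normalizer (H : Set G) := by
      rw [mem_normalizer_cj, ← cj_cj, he, cj_cj, inv_mul_cancel, cj_one]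
    have := mul_mem (hle ho) (Subgroup.mem_sup_left (T := O) hn')
    rwa [mul_inv_cancel_left] at this

theorem main {G : Type u} [Group G] [Finite G] {H : Subgroup G} (h : Hyp H) :
    Subgroup.normalizer (H : Set G) ⊔ Cfsg.oddCore G = ⊤ :=
  main_aux _ G H le_rfl h

end Cfsg.Agent.XClosedAb
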