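import Cfsg.Prelude.Def_SubgroupEmbedding
import Mathlib

/-!
An extremely closed abelian 2-subgroup `H` is a Sylow 2-subgroup with a normal complement of the subgroup it
generates with any conjugate; invariance of the hypothesis under subgroups, conjugation and quotients.
-/

set_option autoImplicit false
set_option linter.style.haveILetI false
set_option linter.unusedSectionVars false

namespace Cfsg.Agent.XClosedAb

variable {G : Type*} [Group G]

/-- The conjugate of a subgroup. -/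
abbrev cj (g : G) (H : Subgroup G) : Subgroup G := H.map (MulAut.conj g).toMonoidHom

theorem mem_cj {g x : G} {H : Subgroup G} : x ∈ cj g H ↔ g⁻¹ * x * g ∈ H := by
  constructor
  · rintro ⟨y, hy, rfl⟩
    simpa [mul_assoc] using hy
  · intro h
    exact ⟨_, h, by simp [mul_assoc]⟩

theorem cj_cj (a b : G) (H : Subgroup G) : cj a (cj b H) = cj (a * b) H := by
  ext x; simp only [mem_cj, mul_inv_rev, mul_assoc]

theorem cj_one (H : Subgroup G) : cj (1 : G) H = H := by
  ext x; simp [mem_cj]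

theorem mem_normalizer_cj {g : G} {H : Subgroup G} : g ∈ Subgroup.normalizer (H : Set G) ↔ cj g H = H := by
  rw [Subgroup.mem_normalizer_iff]
  constructor
  · intro h; ext x
    rw [mem_cj, h (g⁻¹ * x * g), show g * (g⁻¹ * x * g) * g⁻¹ = x by group]
  · intro h x
    conv_rhs => rw [← h, mem_cj, show g⁻¹ * (g * x * g⁻¹) * g = x by group]

theorem card_cj (g : G) (H : Subgroup G) : Nat.card (cj g H) = Nat.card H :=
  Subgroup.card_map_of_injective (MulAut.conj g).injective

/-- The hypothesis on `H`: an abelian extremely closed 2-subgroup. -/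
def Hyp (H : Subgroup G) : Prop :=
  IsPGroup 2 H ∧ (∀ a ∈ H, ∀ b ∈ H, a * b = b * a) ∧
    ∀ g x : G, x ∈ H ⊔ cj g H → x ∈ Subgroup.normalizer (H : Set G) → x ∈ H

theorem hyp_of_isExtremelyClosed {H : Subgroup G} (hH2 : IsPGroup 2 H) (hHab : IsMulCommutative H)
    (hcl : Cfsg.IsExtremelyClosed H) : Hyp H :=
  ⟨hH2, fun a ha b hb => congrArg Subtype.val (hHab.is_comm.comm (⟨a, ha⟩ : H) ⟨b, hb⟩),
    fun g x hx hn => by
      have : x ∈ (H ⊔ cj g H) ⊓ Subgroup.normalizer (H : Set G) := ⟨hx, hn⟩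
      rwa [hcl g] at this⟩

theorem Hyp.conj {H : Subgroup G} (h : Hyp H) (c : G) : Hyp (cj c H) := by
  refine ⟨h.1.map _, ?_, fun g x hx hn => ?_⟩
  · intro a ha b hb
    rw [mem_cj] at ha hb
    have := congrArg (fun u => c * u * c⁻¹) (h.2.1 _ ha _ hb)
    simpa [mul_assoc] using this
  · rw [mem_cj]
    refine h.2.2 (c⁻¹ * g * c) _ ?_ ?_
    · have : c⁻¹ * x * c ∈ cj c⁻¹ (cj c H ⊔ cj g (cj c H)) := by
        rw [mem_cj, inv_inv, show c * (c⁻¹ * x * c) * c⁻¹ = x by group]; exact hx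
      rwa [cj, Subgroup.map_sup, ← cj, ← cj, cj_cj, cj_cj, cj_cj, inv_mul_cancel, cj_one] at this
    · rw [mem_normalizer_cj] at hn ⊢
      rw [cj_cj] at hn
      have := congrArg (cj c⁻¹) hn
      rw [cj_cj, cj_cj, inv_mul_cancel, cj_one, ← mul_assoc] at this
      exact this

theorem Hyp.subgroupOf {H : Subgroup G} (h : Hyp H) {U : Subgroup G} (hU : H ≤ U) : Hyp (H.subgroupOf U) := by
  refine ⟨h.1.comap_subtype, fun a ha b hb => Subtype.ext (h.2.1 _ ha _ hb), fun g x hx hn => ?_⟩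
  refine h.2.2 (g : G) x ?_ ?_
  · have := Subgroup.mem_map_of_mem U.subtype hx
    rw [Subgroup.map_sup, Subgroup.map_subgroupOf_eq_of_le hU] at this
    refine sup_le_sup_left ?_ H this
    rintro _ ⟨_, ⟨y, hy, rfl⟩, rfl⟩
    exact ⟨y, hy, by simp⟩
  · rw [Subgroup.mem_normalizer_iff] at hn ⊢
    intro y
    constructor
    · intro hy; exact (hn ⟨y, hU hy⟩).1 hy
    · intro hy
      have hyU : y ∈ U := by
        have := mul_mem (mul_mem (inv_mem x.2) (hU hy)) x.2
        simpa [mul_assoc] using this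
      exact (hn ⟨y, hyU⟩).2 hy

variable [Finite G]

/-- The subgroup generated by `H` and a conjugate: a retraction onto `H` with kernel of odd order. -/
theorem Hyp.pair {H : Subgroup G} (h : Hyp H) (g : G) :
    ∃ R : Subgroup G, R ≤ H ⊔ cj g H ∧ Odd (Nat.card R) ∧ (∃ o ∈ R, cj g H = cj o H) ∧
      ∃ π : ↥(H ⊔ cj g H) →* G, (∀ x : ↥(H ⊔ cj g H), π x ∈ H) ∧ (∀ x : ↥(H ⊔ cj g H), (x : G) ∈ H → π x = (x : G)) ∧
        (∀ x : ↥(H ⊔ cj g H), π x = 1 ↔ (x : G) ∈ R) := by
  classical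
  haveI : Fact (Nat.Prime 2) := ⟨Nat.prime_two⟩
  set X := H ⊔ cj g H with hXdef
  have hHX : H ≤ X := le_sup_left
  set A := H.subgroupOf X with hA
  have hA2 : IsPGroup 2 A := h.1.comap_subtype
  have hNA : Subgroup.normalizer (A : Set X) ≤ A := by
    intro x hx
    refine h.2.2 g x x.2 ?_
    rw [Subgroup.mem_normalizer_iff] at hx ⊢
    intro y
    constructor
    · intro hy; exact (hx ⟨y, hHX hy⟩).1 hy
    · intro hy
      have hyX : y ∈ X := by
        have := mul_mem (mul_mem (inv_mem x.2) (hHX hy)) x.2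
        simpa [mul_assoc] using this
      exact (hx ⟨y, hyX⟩).2 hy
  obtain ⟨P, hAP⟩ := hA2.exists_le_sylow
  have hPA : (P : Subgroup X) = A := by
    by_contra hne
    have hlt : A.subgroupOf (P : Subgroup X) < ⊤ := by
      rw [lt_top_iff_ne_top, Ne, Subgroup.subgroupOf_eq_top]
      exact fun hle => hne (le_antisymm hle hAP)
    have := P.isPGroup'.isNilpotent
    obtain ⟨z, hz, hzn⟩ := SetLike.exists_of_lt (Group.normalizerCondition_of_isNilpotent _ hlt)
    refine hzn (hNA ?_)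
    have hn := Subgroup.mem_normalizer_iff.1 hz
    rw [Subgroup.mem_normalizer_iff]
    intro y
    constructor
    · intro hy; exact (hn ⟨y, hAP hy⟩).1 hy
    · intro hy
      have hyP : y ∈ (P : Subgroup X) := by
        have := mul_mem (mul_mem (inv_mem z.2) (hAP hy)) z.2
        simpa [mul_assoc] using this
      exact (hn ⟨y, hyP⟩).2 hy
  have hcent : Subgroup.normalizer ((P : Subgroup X) : Set X) ≤ Subgroup.centralizer ((P : Subgroup X) : Set X) := by
    rw [hPA]
    intro x hx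
    rw [Subgroup.mem_centralizer_iff]
    intro y hy
    exact Subtype.ext (h.2.1 _ hy _ (hNA hx))
  set K := (MonoidHom.transferSylow P hcent).ker with hK
  have hc := MonoidHom.ker_transferSylow_isComplement' P hcent
  haveI : K.Normal := inferInstance
  have hKidx : K.index = Nat.card (P : Subgroup X) := hc.symm.index_eq_card
  have hKodd : Odd (Nat.card K) := by
    rw [← Nat.not_even_iff_odd, even_iff_two_dvd]
    intro hd
    exact P.not_dvd_index (by rwa [hc.index_eq_card])
  let e := (hc.symm : Subgroup.IsComplement' (P : Subgroup X) K).QuotientMulEquiv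
  let π : X →* G := (X.subtype.comp (P : Subgroup X).subtype).comp (e.toMonoidHom.comp (QuotientGroup.mk' K))
  have hπid : ∀ x : X, (x : G) ∈ H → π x = x := by
    intro x hx
    have hxP : x ∈ (P : Subgroup X) := hPA ▸ hx
    have : e (QuotientGroup.mk' K x) = ⟨x, hxP⟩ := by
      apply e.symm.injective
      rw [MulEquiv.symm_apply_apply]
      rfl
    show (((e (QuotientGroup.mk' K x)) : X) : G) = x
    rw [this]
  have hπker : ∀ x : X, π x = 1 ↔ x ∈ K := by
    intro x
    show (((e (QuotientGroup.mk' K x)) : X) : G) = 1 ↔ _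
    rw [← Subgroup.coe_one X, Subtype.coe_inj, ← Subgroup.coe_one (P : Subgroup X), Subtype.coe_inj,
      e.map_eq_one_iff, QuotientGroup.mk'_apply, QuotientGroup.eq_one_iff]
  refine ⟨K.map X.subtype, Subgroup.map_subtype_le _, ?_, ?_, π, ?_, hπid, fun x => ?_⟩
  · rwa [Subgroup.card_map_of_injective X.subtype_injective]
  · -- the conjugate is a Sylow 2-subgroup of X
    have hBX : cj g H ≤ X := le_sup_right
    obtain ⟨Q, hBQ⟩ := ((h.conj g).1.comap_subtype (H := cj g H) (K := X)).exists_le_sylow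
    have hQ : (Q : Subgroup X) = (cj g H).subgroupOf X := by
      refine (Subgroup.eq_of_le_of_card_ge hBQ ?_).symm
      show Nat.card (Q : Subgroup X) ≤ Nat.card ((cj g H).subgroupOf X)
      rw [Nat.card_congr (Subgroup.subgroupOfEquivOfLe hBX).toEquiv, card_cj, Q.card_eq_multiplicity,
        ← P.card_eq_multiplicity, hPA, Nat.card_congr (Subgroup.subgroupOfEquivOfLe hHX).toEquiv]
    obtain ⟨x, hx⟩ := MulAction.exists_smul_eq X P Q
    have hx' : (cj (x : G) H) = cj g H := by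
      have h1 : ((x • P : Sylow 2 X) : Subgroup X).map X.subtype = cj g H := by
        rw [hx, hQ, Subgroup.map_subgroupOf_eq_of_le hBX]
      rw [← h1, Sylow.coe_subgroup_smul, hPA]
      ext y
      rw [mem_cj, Subgroup.mem_map]
      constructor
      · intro hy
        refine ⟨x * ⟨_, hHX hy⟩ * x⁻¹, ?_, by simp [mul_assoc]⟩
        exact Subgroup.smul_mem_pointwise_smul (⟨_, hHX hy⟩ : X) (MulAut.conj x) A hy
      · rintro ⟨z, hz, rfl⟩
        obtain ⟨w, hw, rfl⟩ := Subgroup.mem_smul_pointwise_iff_exists _ _ _ |>.1 hz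
        have hwH : (w : G) ∈ H := hw
        simpa [mul_assoc] using hwH
    set a := π x with ha
    have haH : a ∈ H := (SetLike.ext_iff.1 hPA _).1 (e (QuotientGroup.mk' K x)).2
    refine ⟨(x : G) * a⁻¹, ⟨x * ⟨a, hHX haH⟩⁻¹, (hπker _).1 ?_, rfl⟩, ?_⟩
    · rw [map_mul, map_inv, hπid ⟨a, hHX haH⟩ haH, ← ha, mul_inv_cancel]
    · rw [← hx', ← cj_cj, mem_normalizer_cj.1 (Subgroup.le_normalizer (inv_mem haH))]
  · intro x
    exact (SetLike.ext_iff.1 hPA _).1 (e (QuotientGroup.mk' K x)).2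
  · rw [hπker]
    exact ⟨fun hx => ⟨x, hx, rfl⟩, fun ⟨y, hy, hyx⟩ => (Subtype.ext hyx : y = x) ▸ hy⟩

/-- Any subgroup containing `H` and a conjugate of it conjugates the one into the other. -/
theorem Hyp.exists_mem {H : Subgroup G} (h : Hyp H) {U : Subgroup G} (hU : H ≤ U) {g : G} (hg : cj g H ≤ U) :
    ∃ o ∈ U, cj g H = cj o H := by
  obtain ⟨R, hR, -, ⟨o, ho, he⟩, -⟩ := h.pair g
  exact ⟨o, (sup_le hU hg) (hR ho), he⟩

theorem Hyp.normalizer_map {H : Subgroup G} (h : Hyp H) (M : Subgroup G) [M.Normal] :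
    Subgroup.normalizer ((H.map (QuotientGroup.mk' M) : Subgroup (G ⧸ M)) : Set (G ⧸ M)) ≤
      (Subgroup.normalizer (H : Set G) ⊔ M).map (QuotientGroup.mk' M) := by
  intro x hx
  obtain ⟨g, rfl⟩ := QuotientGroup.mk'_surjective M x
  refine ⟨g, ?_, rfl⟩
  have hgH : cj g H ≤ H ⊔ M := by
    intro y hy
    rw [mem_cj] at hy
    have h1 := (Subgroup.mem_normalizer_iff.1 hx _).1 (Subgroup.mem_map_of_mem (QuotientGroup.mk' M) hy)
    rw [← map_inv, ← map_mul, ← map_mul, show g * (g⁻¹ * y * g) * g⁻¹ = y by group] at h1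
    rw [← QuotientGroup.ker_mk' M, ← Subgroup.comap_map_eq]
    exact h1
  obtain ⟨o, ho, he⟩ := h.exists_mem le_sup_left hgH
  have hn : o⁻¹ * g ∈ Subgroup.normalizer (H : Set G) := by
    rw [mem_normalizer_cj, ← cj_cj, he, cj_cj, inv_mul_cancel, cj_one]
  have := mul_mem (sup_le_sup_right (Subgroup.le_normalizer (H := H)) M ho)
    (Subgroup.mem_sup_left (T := M) hn)
  rwa [mul_inv_cancel_left] at this

theorem Hyp.quotient {H : Subgroup G} (h : Hyp H) (M : Subgroup G) [M.Normal] :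
    Hyp (H.map (QuotientGroup.mk' M)) := by
  refine ⟨h.1.map _, ?_, fun g x hx hn => ?_⟩
  · rintro _ ⟨a, ha, rfl⟩ _ ⟨b, hb, rfl⟩
    rw [← map_mul, ← map_mul, h.2.1 a ha b hb]
  obtain ⟨g, rfl⟩ := QuotientGroup.mk'_surjective M g
  have hmap : cj (QuotientGroup.mk' M g) (H.map (QuotientGroup.mk' M)) = (cj g H).map (QuotientGroup.mk' M) := by
    simp only [cj, Subgroup.map_map]
    congr 1
  rw [hmap, ← Subgroup.map_sup] at hx
  obtain ⟨x, hxX, rfl⟩ := hx
  set Y := (H ⊔ M) ⊓ (H ⊔ cj g H)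
  have hxH : cj x H ≤ Y := by
    intro y hy
    rw [mem_cj] at hy
    refine ⟨?_, ?_⟩
    · have h1 := (Subgroup.mem_normalizer_iff.1 hn _).1 (Subgroup.mem_map_of_mem (QuotientGroup.mk' M) hy)
      rw [← map_inv, ← map_mul, ← map_mul, show x * (x⁻¹ * y * x) * x⁻¹ = y by group] at h1
      rw [← QuotientGroup.ker_mk' M, ← Subgroup.comap_map_eq]
      exact h1
    · have := mul_mem (mul_mem hxX (Subgroup.mem_sup_left (T := cj g H) hy)) (inv_mem hxX)
      simpa [mul_assoc] using this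
  obtain ⟨o, ho, he⟩ := h.exists_mem (le_inf le_sup_left le_sup_left) hxH
  have hox : o⁻¹ * x ∈ H := by
    refine h.2.2 g _ (mul_mem (inv_mem ho.2) hxX) ?_
    rw [mem_normalizer_cj, ← cj_cj, he, cj_cj, inv_mul_cancel, cj_one]
  have hxm : x ∈ H ⊔ M := by
    have := mul_mem ho.1 (Subgroup.mem_sup_left (T := M) hox)
    rwa [mul_inv_cancel_left] at this
  have h2 : QuotientGroup.mk' M x ∈ (H ⊔ M).map (QuotientGroup.mk' M) := Subgroup.mem_map_of_mem _ hxm
  rwa [Subgroup.map_sup, QuotientGroup.map_mk'_self, sup_bot_eq] at h2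

end Cfsg.Agent.XClosedAb
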